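import Mathlib
import Groth.Agent.Proj16.Graded
import Groth.Agent.NagataLib.Field
import Groth.Agent.VarDim.Basic
import Groth.Agent.Alg6.AssDepth

/-!
# The normalisation of a positively graded domain
-/

set_option autoImplicit false

universe u

open Polynomial

namespace Groth.Agent.NormGrade

attribute [local instance] Polynomial.algebra

variable {k : Type u} [Field k] {G : Type u} [CommRing G] [IsDomain G] [Algebra k G]
  (𝒢 : ℕ → Submodule k G) [GradedAlgebra 𝒢]
variable (L : Type u) [Field L] [Algebra G L] [IsFractionRing G L]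

local notation "Gp" => HomogeneousIdeal.toIdeal (HomogeneousIdeal.irrelevant 𝒢)

/-- The homogeneous expansion. -/
noncomputable def expand : G →+* G[X] :=
  (DirectSum.toSemiring (fun i => (monomial i).toAddMonoidHom.comp (𝒢 i).subtype.toAddMonoidHom)
    (by show monomial 0 (1 : G) = 1; simp)
    (fun {i j} a b => by
      show monomial (i + j) ((a : G) * b) = monomial i (a : G) * monomial j (b : G)
      rw [monomial_mul_monomial])).comp (DirectSum.decomposeRingEquiv 𝒢).toRingHom

theorem expand_of_mem {i : ℕ} {a : G} (ha : a ∈ 𝒢 i) : expand 𝒢 a = monomial i a := by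
  rw [expand, RingHom.comp_apply, show (DirectSum.decomposeRingEquiv 𝒢).toRingHom a = DirectSum.decompose 𝒢 a from rfl,
    DirectSum.decompose_of_mem 𝒢 ha, DirectSum.toSemiring_of]
  rfl

theorem coeff_expand (i : ℕ) (a : G) : (expand 𝒢 a).coeff i = (DirectSum.decompose 𝒢 a i : G) := by
  classical
  induction a using DirectSum.Decomposition.inductionOn 𝒢 with
  | zero => simp
  | homogeneous x =>
    rename_i j
    rw [expand_of_mem 𝒢 x.2, coeff_monomial]
    by_cases h : j = i
    · subst h; rw [if_pos rfl, DirectSum.decompose_of_mem_same 𝒢 x.2]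
    · rw [if_neg h, DirectSum.decompose_of_mem_ne 𝒢 x.2 h]
  | add x y hx hy => rw [map_add, coeff_add, hx, hy, DirectSum.decompose_add]; rfl

theorem eval_one_expand (a : G) : (expand 𝒢 a).eval 1 = a := by
  induction a using DirectSum.Decomposition.inductionOn 𝒢 with
  | zero => simp
  | homogeneous x =>
    rename_i j
    rw [expand_of_mem 𝒢 x.2, eval_monomial, one_pow, mul_one]
  | add x y hx hy => rw [map_add, eval_add, hx, hy]

/-- The expansion with coefficients in the fraction field. -/
noncomputable def phi : G →+* L[X] := (mapRingHom (algebraMap G L)).comp (expand 𝒢)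

theorem phi_injective : Function.Injective (phi 𝒢 L) := fun a b h => by
  have := Polynomial.map_injective (algebraMap G L) (IsFractionRing.injective G L) h
  rw [← eval_one_expand 𝒢 a, ← eval_one_expand 𝒢 b, this]

theorem phi_eval_one (a : G) : (phi 𝒢 L a).eval 1 = algebraMap G L a := by
  rw [phi, RingHom.comp_apply, coe_mapRingHom, Polynomial.eval_map,
    ← map_one (algebraMap G L), Polynomial.eval₂_hom, eval_one_expand]

theorem coeff_phi (i : ℕ) (a : G) : (phi 𝒢 L a).coeff i = algebraMap G L (DirectSum.decompose 𝒢 a i : G) := by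
  rw [phi, RingHom.comp_apply, coe_mapRingHom, Polynomial.coeff_map, coeff_expand]

/-- A fraction with homogeneous numerator and denominator. -/
def IsHomFrac (j : ℕ) (z : L) : Prop :=
  ∃ (d : ℕ) (h a : G), h ∈ 𝒢 d ∧ h ≠ 0 ∧ a ∈ 𝒢 (d + j) ∧ algebraMap G L h * z = algebraMap G L a

/-- Integral elements are sums of integral homogeneous fractions. -/
theorem exists_components {y : L} (hy : IsIntegral G y) :
    ∃ q : L[X], q.eval 1 = y ∧ ∀ j, IsIntegral G (q.coeff j) ∧ IsHomFrac 𝒢 L j (q.coeff j) := by
  classical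
  obtain ⟨a, b, hb, rfl⟩ := IsFractionRing.div_surjective G y
  have hb0 : b ≠ 0 := nonZeroDivisors.ne_zero hb
  have hβ : phi 𝒢 L b ≠ 0 := fun h => hb0 (phi_injective 𝒢 L (h.trans (map_zero _).symm))
  -- the quotient of the expansions
  let K := FractionRing L[X]
  let ι : G →+* K := (algebraMap L[X] K).comp (phi 𝒢 L)
  have hι : Function.Injective ι := (IsFractionRing.injective L[X] K).comp (phi_injective 𝒢 L)
  let Ψ : L →+* K := IsFractionRing.lift hι
  have hΨ : ∀ g, Ψ (algebraMap G L g) = ι g := fun g => IsFractionRing.lift_algebraMap hι g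
  obtain ⟨P, hPm, hP⟩ := hy
  have hint : IsIntegral L[X] (Ψ (algebraMap G L a / algebraMap G L b)) := by
    refine ⟨P.map (phi 𝒢 L), hPm.map _, ?_⟩
    rw [eval₂_map, show (algebraMap L[X] K).comp (phi 𝒢 L) = Ψ.comp (algebraMap G L) from
      RingHom.ext fun g => (hΨ g).symm, ← Polynomial.hom_eval₂, hP, map_zero]
  obtain ⟨q, hq⟩ := IsIntegrallyClosed.isIntegral_iff.mp hint
  have hmul : phi 𝒢 L b * q = phi 𝒢 L a := by
    refine IsFractionRing.injective L[X] K ?_
    rw [map_mul, hq, show algebraMap L[X] K (phi 𝒢 L b) = Ψ (algebraMap G L b) from (hΨ b).symm,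
      ← map_mul, mul_div_cancel₀ _ (fun h => hb0 (IsFractionRing.injective G L (h.trans (map_zero _).symm))), hΨ]
    rfl
  have hqG : IsIntegral G[X] q := by
    refine ⟨P.map (expand 𝒢), hPm.map _, ?_⟩
    refine IsFractionRing.injective L[X] K ?_
    rw [eval₂_map, map_zero, Polynomial.hom_eval₂, hq]
    rw [show (algebraMap L[X] K).comp ((algebraMap G[X] L[X]).comp (expand 𝒢)) = Ψ.comp (algebraMap G L) from
      RingHom.ext fun g => (hΨ g).symm, ← Polynomial.hom_eval₂, hP, map_zero]
  refine ⟨q, ?_, fun j => ⟨hqG.coeff j, ?_⟩⟩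
  · have h1 := congrArg (Polynomial.eval 1) hmul
    rw [eval_mul, phi_eval_one, phi_eval_one] at h1
    rw [← h1, mul_div_cancel_left₀ _ (fun h => hb0 (IsFractionRing.injective G L (h.trans (map_zero _).symm)))]
  · -- homogeneous denominators
    have hex : ∃ e, (DirectSum.decompose 𝒢 b e : G) ≠ 0 := by
      by_contra h
      push Not at h
      exact hb0 (by rw [← DirectSum.sum_support_decompose 𝒢 b]; exact Finset.sum_eq_zero fun i _ => h i)
    set e := Nat.find hex with he
    set β := (DirectSum.decompose 𝒢 b e : G) with hβdef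
    have hβ0 : β ≠ 0 := Nat.find_spec hex
    have hβm : β ∈ 𝒢 e := SetLike.coe_mem _
    suffices h : ∀ j, ∃ w ∈ 𝒢 (e * (j + 1) + j), algebraMap G L (β ^ (j + 1)) * q.coeff j = algebraMap G L w by
      obtain ⟨w, hw, hw'⟩ := h j
      refine ⟨e * (j + 1), β ^ (j + 1), w, ?_, pow_ne_zero _ hβ0, hw, hw'⟩
      have := SetLike.pow_mem_graded (A := 𝒢) (j + 1) hβm
      rwa [smul_eq_mul, mul_comm] at this
    intro j
    induction j using Nat.strong_induction_on with
    | _ j ih =>
      have h1 : algebraMap G L β * q.coeff j +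
          ∑ i ∈ Finset.range j, algebraMap G L (DirectSum.decompose 𝒢 b (e + (j - i)) : G) * q.coeff i =
          algebraMap G L (DirectSum.decompose 𝒢 a (e + j) : G) := by
        have h2 := congrArg (fun r : L[X] => r.coeff (e + j)) hmul
        simp only [coeff_mul, coeff_phi] at h2
        rw [Finset.Nat.sum_antidiagonal_eq_sum_range_succ_mk] at h2
        rw [← h2, ← Finset.sum_subset (s₁ := Finset.Ico e (e + j + 1))
          (fun x hx => Finset.mem_range.mpr (Finset.mem_Ico.mp hx).2) (fun x hx hx' => by
            have hxe : x < e := by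
              rw [Finset.mem_Ico] at hx'; rw [Finset.mem_range] at hx; omega
            rw [show (DirectSum.decompose 𝒢 b x : G) = 0 from not_not.mp (Nat.find_min hex hxe), map_zero, zero_mul]),
          Finset.sum_Ico_eq_sum_range, show e + j + 1 - e = j + 1 by omega, Finset.sum_range_succ',
          ← Finset.sum_range_reflect (fun i => algebraMap G L (DirectSum.decompose 𝒢 b (e + (i + 1)) : G) *
            q.coeff (e + j - (e + (i + 1))))]
        rw [add_zero, show e + j - e = j by omega, add_comm]
        congr 1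
        refine Finset.sum_congr rfl fun i hi => ?_
        rw [Finset.mem_range] at hi
        rw [show j - 1 - i + 1 = j - i by omega, show e + j - (e + (j - i)) = i by omega]
      choose w hw1 hw2 using fun i : Finset.range j => ih i.1 (Finset.mem_range.mp i.2)
      refine ⟨β ^ j * (DirectSum.decompose 𝒢 a (e + j) : G) -
        ∑ i : Finset.range j, (DirectSum.decompose 𝒢 b (e + (j - i.1)) : G) * β ^ (j - i.1 - 1) * w i, ?_, ?_⟩
      · refine Submodule.sub_mem _ ?_ (Submodule.sum_mem _ fun i _ => ?_)
        · have := SetLike.mul_mem_graded (A := 𝒢) (SetLike.pow_mem_graded j hβm)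
            (SetLike.coe_mem (DirectSum.decompose 𝒢 a (e + j)))
          rwa [smul_eq_mul, show j * e + (e + j) = e * (j + 1) + j by ring] at this
        · obtain ⟨i, hi⟩ := i
          have := SetLike.mul_mem_graded (A := 𝒢) (SetLike.mul_mem_graded (SetLike.coe_mem (DirectSum.decompose 𝒢 b (e + (j - i))))
            (SetLike.pow_mem_graded (j - i - 1) hβm)) (hw1 ⟨i, hi⟩)
          rw [Finset.mem_range] at hi
          obtain ⟨l, rfl⟩ := Nat.exists_eq_add_of_lt hi
          rw [smul_eq_mul, show i + l + 1 - i = l + 1 by omega, show l + 1 - 1 = l by omega,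
            show e + (l + 1) + l * e + (e * (i + 1) + i) = e * (i + l + 1 + 1) + (i + l + 1) by ring] at this
          rw [show i + l + 1 - i = l + 1 by omega, show l + 1 - 1 = l by omega]
          exact this
      · rw [map_sub, map_mul, ← h1, map_sum, mul_add, Finset.mul_sum, map_pow,
          ← Finset.sum_coe_sort (Finset.range j), map_pow, pow_succ, mul_assoc]
        rw [add_sub_assoc, ← Finset.sum_sub_distrib, Finset.sum_eq_zero, add_zero]
        intro i _
        have hi := Finset.mem_range.mp i.2
        rw [map_mul, map_mul, ← hw2 i, map_pow, map_pow]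
        obtain ⟨l, hl⟩ := Nat.exists_eq_add_of_lt hi
        rw [show j - i.1 - 1 = l by omega]
        have e : algebraMap G L β ^ j = algebraMap G L β ^ l * algebraMap G L β ^ (i.1 + 1) := by
          rw [← pow_add]; congr 1; omega
        rw [e]; ring

/-- The conductor. -/
noncomputable def cond : Ideal G :=
  Module.annihilator G (↥(integralClosure G L) ⧸ LinearMap.range (Algebra.linearMap G ↥(integralClosure G L)))

theorem mem_cond {c : G} : c ∈ cond L ↔ ∀ y : L, IsIntegral G y → ∃ g, algebraMap G L g = algebraMap G L c * y := by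
  rw [cond, Module.mem_annihilator]
  constructor
  · intro h y hy
    have := h (Submodule.Quotient.mk ⟨y, hy⟩)
    rw [← Submodule.Quotient.mk_smul, Submodule.Quotient.mk_eq_zero] at this
    obtain ⟨g, hg⟩ := this
    exact ⟨g, (congrArg Subtype.val hg).trans (Algebra.smul_def c y)⟩
  · intro h z
    obtain ⟨⟨y, hy⟩, rfl⟩ := Submodule.Quotient.mk_surjective _ z
    rw [← Submodule.Quotient.mk_smul, Submodule.Quotient.mk_eq_zero]
    obtain ⟨g, hg⟩ := h y hy
    exact ⟨g, Subtype.ext (hg.trans (Algebra.smul_def c y).symm)⟩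

theorem cond_isHomogeneous : (cond L : Ideal G).IsHomogeneous 𝒢 := by
  classical
  intro n c hc
  rw [mem_cond] at hc ⊢
  intro y hy
  obtain ⟨q, rfl, hq⟩ := exists_components 𝒢 L hy
  rw [Polynomial.eval_eq_sum_range, Finset.mul_sum]
  refine Finset.sum_induction _ (fun z => ∃ g, algebraMap G L g = z)
    (fun _ _ ⟨g, hg⟩ ⟨g', hg'⟩ => ⟨g + g', by rw [map_add, hg, hg']⟩) ⟨0, map_zero _⟩ fun j _ => ?_
  obtain ⟨hqi, d, h, a, hd, hh, ha, hha⟩ := hq j
  obtain ⟨g, hg⟩ := hc _ hqi
  refine ⟨(DirectSum.decompose 𝒢 g (n + j) : G), ?_⟩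
  rw [one_pow, mul_one]
  have hh0 : algebraMap G L h ≠ 0 := fun h0 => hh (IsFractionRing.injective G L (h0.trans (map_zero _).symm))
  have e1 : h * g = c * a := IsFractionRing.injective G L (by
    rw [map_mul, map_mul, hg, ← hha]; ring)
  have e2 := congrArg (fun x => (DirectSum.decompose 𝒢 x (d + (n + j)) : G)) e1
  simp only [DirectSum.coe_decompose_mul_of_left_mem_of_le 𝒢 hd (Nat.le_add_right d (n + j)),
    DirectSum.coe_decompose_mul_of_right_mem_of_le 𝒢 ha (show d + j ≤ d + (n + j) by omega)] at e2
  rw [Nat.add_sub_cancel_left, show d + (n + j) - (d + j) = n by omega] at e2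
  refine mul_left_cancel₀ hh0 ?_
  rw [← map_mul, e2, map_mul, ← hha]
  show _ = _ * (algebraMap G L (DirectSum.decompose 𝒢 c n : G) * _)
  ring

end Groth.Agent.NormGrade
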