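import Mathlib
import Groth.Agent.NormGrade.Basic
import Groth.Agent.LC.Depth
import Groth.Agent.LC.CohTorsion
import Groth.Prelude.Def_Wider

/-!
# Normal punctured cone, and the first local cohomology as normalisation defect
-/

set_option autoImplicit false

universe u

open CategoryTheory

namespace Groth.Agent.NormGrade

variable {k : Type u} [Field k] {G : Type u} [CommRing G] [IsDomain G] [Algebra k G] [IsNoetherianRing G]
  (𝒢 : ℕ → Submodule k G) [GradedAlgebra 𝒢]
  (h0 : ∀ x ∈ 𝒢 0, x ∈ Set.range (algebraMap k G))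
variable (L : Type u) [Field L] [Algebra G L] [IsFractionRing G L]

local notation "Gp" => HomogeneousIdeal.toIdeal (HomogeneousIdeal.irrelevant 𝒢)
set_option quotPrecheck false in
local notation "C" => ↥(integralClosure G L) ⧸ LinearMap.range (Algebra.linearMap G ↥(integralClosure G L))

include h0 in
theorem finiteType : Algebra.FiniteType k G := by
  classical
  haveI : Algebra.FiniteType (𝒢 0) G :=
    (Proj16.irrelevant_fg_iff 𝒢).mp ((isNoetherianRing_iff_ideal_fg G).mp inferInstance _)
  obtain ⟨s, hs⟩ := Algebra.FiniteType.out (R := 𝒢 0) (A := G)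
  refine ⟨⟨s, eq_top_iff.mpr fun x htriv => ?_⟩⟩
  clear htriv
  have hx : x ∈ Algebra.adjoin (𝒢 0) (s : Set G) := by rw [hs]; trivial
  induction hx using Algebra.adjoin_induction with
  | mem y hy => exact Algebra.subset_adjoin hy
  | algebraMap r =>
    obtain ⟨c, hc⟩ := h0 r.1 r.2
    rw [show algebraMap (𝒢 0) G r = algebraMap k G c from hc.symm]
    exact Subalgebra.algebraMap_mem _ c
  | add a b _ _ ha hb => exact add_mem ha hb
  | mul a b _ _ ha hb => exact mul_mem ha hb

include h0 in
theorem finite_integralClosure : Module.Finite G (integralClosure G L) := by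
  haveI := finiteType 𝒢 h0
  letI : Algebra (FractionRing G) L := FractionRing.liftAlgebra G L
  haveI : IsScalarTower G (FractionRing G) L := FractionRing.isScalarTower_liftAlgebra G L
  refine NagataLib.isN2_of_finiteType k G L ?_
  refine Module.Finite.of_surjective (Algebra.linearMap (FractionRing G) L) fun z => ?_
  obtain ⟨a, b, hb, rfl⟩ := IsFractionRing.div_surjective G z
  refine ⟨algebraMap G _ a / algebraMap G _ b, ?_⟩
  rw [Algebra.linearMap_apply, map_div₀, ← IsScalarTower.algebraMap_apply, ← IsScalarTower.algebraMap_apply]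

include h0 in
theorem irrelevant_isMaximal : (Gp).IsMaximal := by
  classical
  refine Ideal.isMaximal_iff.mpr ⟨fun h1 => ?_, fun J x hJ hx hxJ => ?_⟩
  · rw [HomogeneousIdeal.mem_iff, ← SetLike.mem_coe] at h1
    have h2 := (HomogeneousIdeal.mem_irrelevant_iff 𝒢 (1 : G)).mp h1
    rw [GradedRing.proj_apply, DirectSum.decompose_of_mem_same 𝒢 (SetLike.one_mem_graded 𝒢)] at h2
    exact one_ne_zero h2
  · obtain ⟨c, hc⟩ := h0 _ (SetLike.coe_mem (DirectSum.decompose 𝒢 x 0))
    have hc0 : c ≠ 0 := fun h => hx ((HomogeneousIdeal.mem_irrelevant_iff 𝒢 x).mpr (by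
      rw [GradedRing.proj_apply, ← hc, h, map_zero]))
    have h2 : x - algebraMap k G c ∈ Gp := (HomogeneousIdeal.mem_irrelevant_iff 𝒢 _).mpr (by
      rw [map_sub, GradedRing.proj_apply, GradedRing.proj_apply,
        DirectSum.decompose_of_mem_same 𝒢 (hc ▸ SetLike.coe_mem (DirectSum.decompose 𝒢 x 0) : algebraMap k G c ∈ 𝒢 0),
        hc, sub_self])
    have h3 : algebraMap k G c ∈ J := by simpa using J.sub_mem hxJ (hJ h2)
    exact (Ideal.eq_top_iff_one J).mp (Ideal.eq_top_of_isUnit_mem _ h3 ((isUnit_iff_ne_zero.mpr hc0).map _))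

include h0 in
theorem le_irrelevant {J : Ideal G} (hJ : J.IsHomogeneous 𝒢) (hne : J ≠ ⊤) : J ≤ Gp := by
  classical
  intro x hx
  refine (HomogeneousIdeal.mem_irrelevant_iff 𝒢 x).mpr ?_
  by_contra h
  rw [GradedRing.proj_apply] at h
  obtain ⟨c, hc⟩ := h0 _ (SetLike.coe_mem (DirectSum.decompose 𝒢 x 0))
  have h1 : algebraMap k G c ∈ J := hc ▸ hJ 0 hx
  have hc0 : c ≠ 0 := fun h' => h (by rw [← hc, h', map_zero])
  exact hne (Ideal.eq_top_of_isUnit_mem _ h1 ((isUnit_iff_ne_zero.mpr hc0).map _))

include h0 in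
theorem prime_eq_irrelevant (hfin : IsFiniteLength G C) {p : Ideal G} [hp : p.IsPrime] (hc : cond L ≤ p) : p = Gp := by
  classical
  haveI := finite_integralClosure 𝒢 h0 L
  haveI : IsArtinian G C := (isFiniteLength_iff_isNoetherian_isArtinian.mp hfin).2
  haveI : IsArtinianRing (G ⧸ cond L) := by
    obtain ⟨s, hs⟩ := (Module.Finite.fg_top : (⊤ : Submodule G C).FG)
    let f : G →ₗ[G] (s → C) := LinearMap.pi fun z => LinearMap.toSpanSingleton G C z.1
    have hker : LinearMap.ker f = cond L := by
      ext c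
      rw [LinearMap.mem_ker, cond, Module.mem_annihilator]
      constructor
      · intro h z
        have hz : z ∈ Submodule.span G (s : Set C) := by rw [hs]; trivial
        induction hz using Submodule.span_induction with
        | mem y hy => exact congrFun h ⟨y, hy⟩
        | zero => rw [smul_zero]
        | add a b _ _ ha hb => rw [smul_add, ha, hb, add_zero]
        | smul r a _ ha => rw [smul_comm, ha, smul_zero]
      · exact fun h => funext fun z => h z.1
    haveI : IsArtinian G (G ⧸ LinearMap.ker f) :=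
      isArtinian_of_injective ((LinearMap.ker f).liftQ f le_rfl)
        (LinearMap.ker_eq_bot.mp (Submodule.ker_liftQ_eq_bot' _ f rfl))
    haveI : IsArtinian G (G ⧸ (cond L : Ideal G)) :=
      isArtinian_of_linearEquiv (Submodule.quotEquivOfEq _ _ hker)
    exact isArtinian_of_tower G this
  have hmax : ∀ q : Ideal G, q.IsPrime → cond L ≤ q → q.IsMaximal := by
    intro q hq hle
    haveI : IsArtinianRing (G ⧸ q) :=
      Function.Surjective.isArtinianRing (Ideal.Quotient.factor_surjective hle)
    exact Ideal.Quotient.maximal_of_isField q (IsArtinianRing.isField_of_isDomain _)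
  obtain ⟨q, hq, hqp⟩ := Ideal.exists_minimalPrimes_le hc
  haveI := hq.1.1
  have hhom : q.IsHomogeneous 𝒢 := by
    have hcore : cond L ≤ (q.homogeneousCore 𝒢).toIdeal := by
      intro x hx
      have := Ideal.homogeneousCore_mono 𝒢 hq.1.2
      refine this ?_
      show x ∈ (Ideal.homogeneousCore 𝒢 (cond L)).toIdeal
      rwa [(cond_isHomogeneous 𝒢 L).toIdeal_homogeneousCore_eq_self]
    have := hq.2 ⟨hq.1.1.homogeneousCore, hcore⟩ (Ideal.toIdeal_homogeneousCore_le 𝒢 q)
    rw [le_antisymm this (Ideal.toIdeal_homogeneousCore_le 𝒢 q)]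
    exact HomogeneousIdeal.isHomogeneous _
  have h1 : q = Gp := (hmax q hq.1.1 hq.1.2).eq_of_le (irrelevant_isMaximal 𝒢 h0).ne_top (le_irrelevant 𝒢 h0 hhom hq.1.1.ne_top)
  rw [h1] at hqp
  exact ((irrelevant_isMaximal 𝒢 h0).eq_of_le hp.ne_top hqp).symm

include h0 in
theorem normal_iff :
    (∀ (p : Ideal G) [p.IsPrime], ¬ Gp ≤ p → IsIntegrallyClosed (Localization.AtPrime p)) ↔ IsFiniteLength G C := by
  classical
  haveI := finite_integralClosure 𝒢 h0 L
  constructor
  · intro hN
    have hsupp : ∀ p : Ideal G, p.IsPrime → cond L ≤ p → Gp ≤ p := by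
      intro p hp hc
      by_contra hGp
      haveI := hp
      haveI := hN p hGp
      obtain ⟨s, hs⟩ := (Module.Finite.fg_top : (⊤ : Submodule G C).FG)
      have hkill : ∀ z : C, ∃ t ∉ p, t • z = 0 := by
        intro z
        obtain ⟨⟨y, hy⟩, rfl⟩ := Submodule.Quotient.mk_surjective _ z
        let K := FractionRing G
        obtain ⟨a, b, hb, rfl⟩ := IsFractionRing.div_surjective G y
        let Gl := Localization.AtPrime p
        have hu : ∀ t : p.primeCompl, IsUnit (algebraMap G L t) := fun t => isUnit_iff_ne_zero.mpr fun h =>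
          t.2 (by rw [(IsFractionRing.injective G L) (h.trans (map_zero _).symm)]; exact p.zero_mem)
        let j : Gl →+* L := IsLocalization.lift hu
        letI : Algebra Gl L := j.toAlgebra
        haveI : IsScalarTower G Gl L := IsScalarTower.of_algebraMap_eq fun x => (IsLocalization.lift_eq hu x).symm
        haveI : IsFractionRing Gl L :=
          IsFractionRing.isFractionRing_of_isDomain_of_isLocalization p.primeCompl Gl L
        obtain ⟨w, hw⟩ := IsIntegrallyClosed.isIntegral_iff.mp (hy.tower_top (A := Gl))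
        obtain ⟨⟨r, t⟩, hrt⟩ := IsLocalization.surj p.primeCompl w
        refine ⟨t, t.2, ?_⟩
        rw [← Submodule.Quotient.mk_smul, Submodule.Quotient.mk_eq_zero]
        refine ⟨r, Subtype.ext ?_⟩
        show algebraMap G L r = (t : G) • (algebraMap G L a / algebraMap G L b)
        rw [Algebra.smul_def, ← hw, IsScalarTower.algebraMap_apply G Gl L, IsScalarTower.algebraMap_apply G Gl L (t : G),
          ← map_mul, ← hrt, mul_comm]
      choose t ht1 ht2 using hkill
      have hprod : ∏ z ∈ s, t z ∈ cond L := by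
        rw [cond, Module.mem_annihilator]
        intro z
        have hz : z ∈ Submodule.span G (s : Set C) := by rw [hs]; trivial
        induction hz using Submodule.span_induction with
        | mem y hy => rw [← Finset.prod_erase_mul _ _ hy, mul_smul, ht2, smul_zero]
        | zero => rw [smul_zero]
        | add a b _ _ ha hb => rw [smul_add, ha, hb, add_zero]
        | smul r a _ ha => rw [smul_comm, ha, smul_zero]
      obtain ⟨z, -, hz⟩ := (hp.prod_mem_iff).mp (hc hprod)
      exact ht1 z hz
    haveI : Ring.KrullDimLE 0 (G ⧸ cond L) := by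
      refine Ring.KrullDimLE.mk₀ fun q hq => ?_
      haveI := hq
      have h1 : (q.comap (Ideal.Quotient.mk (cond L))).IsMaximal := by
        rw [← (irrelevant_isMaximal 𝒢 h0).eq_of_le (Ideal.IsPrime.ne_top inferInstance)
          (hsupp (q.comap (Ideal.Quotient.mk (cond L))) inferInstance (fun x hx => by
            rw [Ideal.mem_comap, Ideal.Quotient.eq_zero_iff_mem.mpr hx]; exact q.zero_mem))]
        exact irrelevant_isMaximal 𝒢 h0
      rw [← Ideal.map_comap_of_surjective (Ideal.Quotient.mk (cond L)) Ideal.Quotient.mk_surjective q]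
      exact Ideal.IsMaximal.map_of_surjective_of_ker_le Ideal.Quotient.mk_surjective (fun x hx => by
        rw [Ideal.mk_ker] at hx
        rw [Ideal.mem_comap, Ideal.Quotient.eq_zero_iff_mem.mpr hx]; exact q.zero_mem)
    haveI : IsArtinianRing (G ⧸ cond L) := IsNoetherianRing.isArtinianRing_of_krullDimLE_zero
    rw [isFiniteLength_iff_isNoetherian_isArtinian]
    letI : Module (G ⧸ cond L) C := Module.IsTorsionBySet.module (Module.isTorsionBySet_annihilator G C)
    haveI : IsScalarTower G (G ⧸ cond L) C := Module.IsTorsionBySet.isScalarTower _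
    haveI : Module.Finite (G ⧸ cond L) C := Module.Finite.of_restrictScalars_finite G _ _
    refine ⟨isNoetherian_of_isNoetherianRing_of_finite G C, ?_⟩
    exact isArtinian_of_surjective_algebraMap (R := G ⧸ cond L) (S := G) (M := C) Ideal.Quotient.mk_surjective
  · intro hfin p hp hGp
    have hc : ¬ cond L ≤ p := fun h => hGp (prime_eq_irrelevant 𝒢 h0 L hfin h).ge
    obtain ⟨c, hc1, hc2⟩ := Set.not_subset.mp hc
    let Gl := Localization.AtPrime p
    have hu : ∀ t : p.primeCompl, IsUnit (algebraMap G L t) := fun t => isUnit_iff_ne_zero.mpr fun h =>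
      t.2 (by rw [(IsFractionRing.injective G L) (h.trans (map_zero _).symm)]; exact p.zero_mem)
    letI : Algebra Gl L := (IsLocalization.lift hu).toAlgebra
    haveI : IsScalarTower G Gl L := IsScalarTower.of_algebraMap_eq fun x => (IsLocalization.lift_eq hu x).symm
    haveI : IsFractionRing Gl L := IsFractionRing.isFractionRing_of_isDomain_of_isLocalization p.primeCompl Gl L
    refine (isIntegrallyClosed_iff L).mpr fun {x} hx => ?_
    obtain ⟨⟨m, hm⟩, hmx⟩ := IsIntegral.exists_multiple_integral_of_isLocalization p.primeCompl x hx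
    obtain ⟨g, hg⟩ := (mem_cond L).mp hc1 _ hmx
    refine ⟨IsLocalization.mk' Gl g ⟨c * m, p.primeCompl.mul_mem hc2 hm⟩, ?_⟩
    have hne : algebraMap G L (c * m) ≠ 0 := (hu ⟨c * m, p.primeCompl.mul_mem hc2 hm⟩).ne_zero
    refine mul_left_cancel₀ hne ?_
    conv_lhs => rw [IsScalarTower.algebraMap_apply G Gl L, ← map_mul, mul_comm, IsLocalization.mk'_spec,
      ← IsScalarTower.algebraMap_apply]
    rw [hg, Submonoid.smul_def, Algebra.smul_def, map_mul, mul_assoc]

include h0 in
theorem le_radical_cond (hfin : IsFiniteLength G C) : Gp ≤ (cond L).radical := by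
  rw [Ideal.radical_eq_sInf]
  exact le_sInf fun p hp => haveI := hp.2; (prime_eq_irrelevant 𝒢 h0 L hfin hp.1).ge

include h0 in
theorem two_le_idealDepth (hdim : 2 ≤ ringKrullDim G) :
    (2 : ℕ∞) ≤ LocCoh.idealDepth Gp ↥(integralClosure G L) := by
  classical
  haveI := finite_integralClosure 𝒢 h0 L
  haveI := finiteType 𝒢 h0
  haveI := irrelevant_isMaximal 𝒢 h0
  set B := ↥(integralClosure G L) with hB
  haveI : Algebra.IsIntegral G B := inferInstance
  haveI : IsNoetherianRing B := IsNoetherianRing.of_finite G B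
  haveI : FaithfulSMul G B := (faithfulSMul_iff_algebraMap_injective G B).mpr fun a b h =>
    IsFractionRing.injective G L (congrArg Subtype.val h)
  obtain ⟨x, hxG, hx0⟩ : ∃ x ∈ Gp, x ≠ 0 := Submodule.exists_mem_ne_zero_of_ne_bot fun h => by
    have h1 : IsField G := (Ring.isField_iff_maximal_bot).mpr (h ▸ irrelevant_isMaximal 𝒢 h0)
    rw [ringKrullDim_eq_zero_of_isField h1] at hdim
    exact absurd hdim (by decide)
  let xb := algebraMap G B x
  have hxb : xb ≠ 0 := fun h => hx0 (FaithfulSMul.algebraMap_injective G B (h.trans (map_zero _).symm))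
  -- no element of `B ⧸ xB` is killed by `G₊`
  have key : ∀ z : B, (∀ i ∈ Gp, algebraMap G B i * z ∈ Ideal.span {xb}) → z ∈ Ideal.span {xb} := by
    intro z hz
    by_contra hzn
    have hne : (Ideal.Quotient.mk (Ideal.span {xb}) z) ≠ 0 := fun h => hzn (Ideal.Quotient.eq_zero_iff_mem.mp h)
    have hsm : ∀ q v : B, q • Ideal.Quotient.mk (Ideal.span {xb}) v = Ideal.Quotient.mk (Ideal.span {xb}) (q * v) :=
      fun _ _ => rfl
    obtain ⟨P, hP, hPann⟩ := Alg6.exists_ass_ge (R := B) hne
    obtain ⟨hPp, w, hw⟩ := isAssociatedPrime_iff.mp hP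
    haveI := hPp
    obtain ⟨w, rfl⟩ := Ideal.Quotient.mk_surjective w
    have hPI : ∀ i ∈ Gp, algebraMap G B i ∈ P := fun i hi => hPann _ (by
      rw [hsm]
      exact Ideal.Quotient.eq_zero_iff_mem.mpr (hz i hi))
    have hPG : P.comap (algebraMap G B) = Gp :=
      ((irrelevant_isMaximal 𝒢 h0).eq_of_le (Ideal.IsPrime.ne_top inferInstance) hPI).symm
    haveI hPmax : P.IsMaximal := Ideal.isMaximal_of_isIntegral_of_isMaximal_comap P (hPG ▸ irrelevant_isMaximal 𝒢 h0)
    have hmemP : ∀ q, q ∈ P ↔ q * w ∈ Ideal.span {xb} := fun q => by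
      rw [hw, Submodule.mem_colon_singleton, Submodule.mem_bot, hsm, Ideal.Quotient.eq_zero_iff_mem]
    have hwx : w ∉ Ideal.span {xb} := fun h => hPp.ne_top ((Ideal.eq_top_iff_one P).mpr ((hmemP 1).mpr (by rwa [one_mul])))
    set t : L := (w : L) / (xb : L) with ht
    have hxL : (xb : L) ≠ 0 := fun h => hxb (Subtype.ext h)
    choose f hf using fun q : P => Ideal.mem_span_singleton'.mp ((hmemP q).mp q.2)
    have hfL : ∀ q : P, (f q : L) = t * (q.1 : L) := fun q => by
      have := congrArg Subtype.val (hf q)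
      change (f q : L) * (xb : L) = (q.1 : L) * (w : L) at this
      rw [ht, div_mul_eq_mul_div, eq_div_iff hxL]
      linear_combination this
    by_cases hstab : ∀ q : P, f q ∈ P
    · -- determinant trick
      obtain ⟨s, hs⟩ := (IsNoetherian.noetherian (P.restrictScalars G) : (P.restrictScalars G).FG)
      let N : Submodule G L := (P.restrictScalars G).map ((integralClosure G L).val.toLinearMap)
      have hN : N.FG := Submodule.FG.map _ ⟨s, hs⟩
      have hint : IsIntegral G t := by
        refine isIntegral_of_smul_mem_submodule N ?_ hN t ?_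
        · intro hbot
          have : (xb : L) ∈ N := ⟨xb, hPI x hxG, rfl⟩
          rw [hbot, Submodule.mem_bot] at this
          exact hxL this
        · rintro _ ⟨q, hq, rfl⟩
          exact ⟨f ⟨q, hq⟩, hstab ⟨q, hq⟩, hfL ⟨q, hq⟩⟩
      exact hwx (Ideal.mem_span_singleton'.mpr ⟨⟨t, hint⟩, Subtype.ext (div_mul_cancel₀ _ hxL)⟩)
    · push Not at hstab
      obtain ⟨g, hg⟩ := hstab
      have hmin : P ∈ (Ideal.span {g.1}).minimalPrimes := by
        refine ⟨⟨inferInstance, (Ideal.span_singleton_le_iff_mem _).mpr g.2⟩, fun P' hP' hle q hq => ?_⟩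
        have e : f g * q = f ⟨q, hq⟩ * g.1 := Subtype.ext (by
          show (f g : L) * (q : L) = (f ⟨q, hq⟩ : L) * (g.1 : L)
          rw [hfL, hfL]; ring)
        haveI := hP'.1
        have h1 : f g * q ∈ P' := by
          rw [e]; exact P'.mul_mem_left _ (hP'.2 (Ideal.mem_span_singleton_self _))
        exact (hP'.1.mem_or_mem h1).resolve_left fun h2 => hg (hle h2)
      have hle1 := Ideal.height_le_one_of_isPrincipal_of_mem_minimalPrimes (Ideal.span {g.1}) P hmin
      haveI : Algebra.FiniteType G B := inferInstance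
      letI : Algebra k B := ((algebraMap G B).comp (algebraMap k G)).toAlgebra
      haveI : IsScalarTower k G B := IsScalarTower.of_algebraMap_eq fun _ => rfl
      haveI : Algebra.FiniteType k B := Algebra.FiniteType.trans (S := G) inferInstance inferInstance
      obtain ⟨d, hd, -⟩ := VarDim.exists_dim_eq_trdeg k B
      have h3 := VarDim.height_add_coheight_eq k d B hd ⟨P, hPp⟩
      have hco : Order.coheight (⟨P, hPp⟩ : PrimeSpectrum B) = 0 := Order.coheight_eq_zero.2 fun Q hQ =>
        (PrimeSpectrum.ext (hPmax.eq_of_le Q.isPrime.ne_top hQ)).ge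
      rw [hco, add_zero] at h3
      rw [(⟨P, hPp⟩ : PrimeSpectrum B).height_eq_orderHeight, h3] at hle1
      rw [← VarDim.ringKrullDim_eq_of_isIntegral (R := G) (S := B), hd] at hdim
      have h4 : 2 ≤ d := by exact_mod_cast hdim
      have h5 : d ≤ 1 := by exact_mod_cast hle1
      omega
  -- a regular sequence of length two
  set Q := B ⧸ (Ideal.ofList [x] • ⊤ : Submodule G B) with hQ
  have hQ0 : ∀ b : B, (Submodule.Quotient.mk b : Q) = 0 ↔ b ∈ Ideal.span {xb} := fun b => by
    rw [Submodule.Quotient.mk_eq_zero, Ideal.ofList_singleton, Submodule.ideal_span_singleton_smul,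
      Ideal.mem_span_singleton']
    constructor
    · rintro ⟨c, -, hc⟩; exact ⟨c, by rw [← hc]; show c * xb = x • c; rw [Algebra.smul_def, mul_comm]⟩
    · rintro ⟨c, hc⟩; exact ⟨c, trivial, by rw [← hc]; show x • c = c * xb; rw [Algebra.smul_def, mul_comm]⟩
  obtain ⟨y, hyG, hyreg⟩ : ∃ y ∈ Gp, IsSMulRegular Q y := by
    by_contra h
    push Not at h
    have hsub : (Gp : Set G) ⊆ ⋃ p ∈ associatedPrimes G Q, (p : Set G) := fun y hy => by
      rw [biUnion_associatedPrimes_eq_compl_regular]; exact h y hy
    obtain ⟨p, hp, hle⟩ := (Ideal.subset_union_prime_finite (associatedPrimes.finite G Q) ⊥ ⊥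
      (fun p hp _ _ => hp.1)).mp hsub
    obtain ⟨hpp, z, hz⟩ := isAssociatedPrime_iff.mp hp
    obtain ⟨z, rfl⟩ := Submodule.Quotient.mk_surjective _ z
    have hzz : z ∈ Ideal.span {xb} := key z fun i hi => by
      have := hle hi
      rw [hz, Submodule.mem_colon_singleton, Submodule.mem_bot, ← Submodule.Quotient.mk_smul, hQ0,
        Algebra.smul_def] at this
      exact this
    refine hpp.ne_top ((Ideal.eq_top_iff_one p).mpr ?_)
    rw [hz, Submodule.mem_colon_singleton, Submodule.mem_bot, one_smul, hQ0]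
    exact hzz
  have hreg : RingTheory.Sequence.IsWeaklyRegular B ([x] ++ [y]) := by
    rw [RingTheory.Sequence.isWeaklyRegular_append_iff, RingTheory.Sequence.isWeaklyRegular_singleton_iff,
      RingTheory.Sequence.isWeaklyRegular_singleton_iff]
    refine ⟨?_, hyreg⟩
    rw [isSMulRegular_iff_right_eq_zero_of_smul]
    intro b hb
    rw [Algebra.smul_def] at hb
    exact (mul_eq_zero.mp hb).resolve_left hxb
  have := Alg6.length_le_idealDepth hreg (I := Gp) (by
    intro r hr
    simp only [List.mem_append, List.mem_singleton] at hr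
    rcases hr with rfl | rfl
    · exact hxG
    · exact hyG)
  simpa using this

include h0 in
theorem nonempty_equiv (hdim : 2 ≤ ringKrullDim G) (hfin : IsFiniteLength G C) :
    Nonempty (C ≃ₗ[G] LocCoh.H Gp 1 G) := by
  classical
  haveI := finite_integralClosure 𝒢 h0 L
  let B := ↥(integralClosure G L)
  have hinj : Function.Injective (Algebra.linearMap G B) := fun a b h =>
    IsFractionRing.injective G L (congrArg Subtype.val h)
  let S : ShortComplex (ModuleCat.{u} G) := ShortComplex.mk (ModuleCat.ofHom (Algebra.linearMap G B))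
    (ModuleCat.ofHom (LinearMap.range (Algebra.linearMap G B)).mkQ)
    (ModuleCat.hom_ext (LinearMap.range_mkQ_comp _))
  have hS : S.ShortExact :=
    { exact := (ShortComplex.ShortExact.moduleCat_exact_iff_function_exact S).mpr
        (LinearMap.exact_map_mkQ_range _)
      mono_f := (ModuleCat.mono_iff_injective _).mpr hinj
      epi_g := (ModuleCat.epi_iff_surjective _).mpr (Submodule.mkQ_surjective _) }
  have hd := (LC.le_idealDepth_iff_H Gp B 2).mp (two_le_idealDepth 𝒢 h0 L hdim)
  haveI : Subsingleton ((localCohomology Gp 0).obj S.X₂) := hd 0 (by omega)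
  haveI : Subsingleton ((localCohomology Gp 1).obj S.X₂) := hd 1 (by omega)
  let δ := LC.δH Gp 0 hS 1 rfl
  have hδi : Function.Injective δ := fun a b h => by
    have h1 : δ (a - b) = 0 := by rw [map_sub, h, sub_self]
    obtain ⟨w, hw⟩ := (LC.exact₃ Gp 0 hS 1 rfl (a - b)).mp h1
    rw [Subsingleton.elim w 0, map_zero] at hw
    exact sub_eq_zero.mp hw.symm
  have hδs : Function.Surjective δ := fun z => (LC.exact₁ Gp 0 hS 1 rfl z).mp (Subsingleton.elim _ _)
  have htor : LocCoh.IsPowerTorsion Gp C := by
    obtain ⟨N, hN⟩ := Ideal.exists_pow_le_of_le_radical_of_fg (le_radical_cond 𝒢 h0 L hfin) (IsNoetherian.noetherian _)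
    exact fun z => ⟨N, fun a ha => (Module.mem_annihilator.mp (hN ha)) z⟩
  exact ⟨(LinearEquiv.ofTop _ (LC.torsionSub_eq_top Gp htor)).symm.trans
    ((LC.H0Equiv Gp S.X₃).symm.trans (LinearEquiv.ofBijective δ ⟨hδi, hδs⟩))⟩

end Groth.Agent.NormGrade
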